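import Groth.Agent.Lib.GrTilde.Stalk
import Groth.Agent.Lib.GradedAlg.VeroneseProj
import Groth.Agent.Lib.TwistAdj10.Main

/-!
# `M~` on a Veronese model
-/

set_option autoImplicit false
set_option linter.all false
set_option backward.isDefEq.respectTransparency false
set_option maxHeartbeats 400000

universe u

open AlgebraicGeometry CategoryTheory TopologicalSpace Opposite HomogeneousLocalization
open GrothLib.GradedAlg GrothLib.GrTilde

noncomputable section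

namespace GrothLib.VerTilde10

variable {R A B : Type u} [CommRing R] [CommRing A] [Algebra R A] {𝒜 : ℕ → Submodule R A} [GradedAlgebra 𝒜]
  [CommRing B] [Algebra R B] {ℬ : ℕ → Submodule R B} [GradedAlgebra ℬ] {d : ℕ} {φ : B →ₐ[R] A}

/-- The isomorphism is the one given by the charts. -/
structure IsVer (e : Proj 𝒜 ≅ Proj ℬ) : Prop where
  pos : 0 < d
  inj : Function.Injective φ
  deg : ∀ n : ℕ, Submodule.map φ.toLinearMap (ℬ n) = 𝒜 (n * d)
  comm : ∀ (n : ℕ) (g : B) (hn : 0 < n) (hg : g ∈ ℬ n)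
    (θ : CommRingCat.of (HomogeneousLocalization.Away ℬ g) ⟶ CommRingCat.of (HomogeneousLocalization.Away 𝒜 (φ g))),
    (algebraMap (HomogeneousLocalization.Away 𝒜 (φ g)) (Localization.Away (φ g))).comp θ.hom =
      (Localization.awayMap φ.toRingHom g).comp
        (algebraMap (HomogeneousLocalization.Away ℬ g) (Localization.Away g)) →
    Proj.awayι 𝒜 (φ g) ((deg n).le (Submodule.mem_map_of_mem hg)) (Nat.mul_pos hn pos) ≫ e.hom =
      Spec.map θ ≫ Proj.awayι ℬ g hg hn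

variable {e : Proj 𝒜 ≅ Proj ℬ} (he : IsVer (d := d) (φ := φ) e)
include he

theorem awayι_hom {n : ℕ} (hn : 0 < n) (g : B) (hg : g ∈ ℬ n) :
    Proj.awayι 𝒜 (φ g) (mem_of_veronese 𝒜 ℬ φ he.deg hg) (Nat.mul_pos hn he.pos) ≫ e.hom =
      Spec.map (CommRingCat.ofHom (theta 𝒜 ℬ φ he.deg g)) ≫ Proj.awayι ℬ g hg hn :=
  he.comm n g hn hg (CommRingCat.ofHom (theta 𝒜 ℬ φ he.deg g)) (RingHom.ext fun y => val_theta 𝒜 ℬ φ he.deg g y)

theorem hom_eq : e.hom = (verIso 𝒜 ℬ φ he.deg he.pos he.inj).hom :=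
  (verCover 𝒜 ℬ φ he.deg he.pos).openCover.hom_ext _ _ fun (j : (n : ℕ+) × ℬ n) =>
    (awayι_hom he j.1.pos (j.2 : B) j.2.2).trans
      (awayι_verHom 𝒜 ℬ φ he.deg he.pos j.1.pos (j.2 : B) j.2.2).symm

theorem hom_apply (y : Proj 𝒜) :
    (e.hom.base y).asHomogeneousIdeal.toIdeal = Ideal.comap φ.toRingHom y.asHomogeneousIdeal.toIdeal := by
  rw [hom_eq he]; exact verIso_apply 𝒜 ℬ φ he.deg he.pos he.inj y

theorem notMem_iff (y : Proj 𝒜) (b : B) :
    b ∉ (e.hom.base y).asHomogeneousIdeal ↔ φ b ∉ y.asHomogeneousIdeal := by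
  refine not_congr ?_
  show b ∈ (e.hom.base y).asHomogeneousIdeal.toIdeal ↔ _
  rw [hom_apply he]
  rfl

theorem exists_pow_eq {i : ℕ} {s : A} (hs : s ∈ 𝒜 i) : ∃ b ∈ ℬ i, φ b = s ^ d :=
  (he.deg i).ge (show s ^ d ∈ 𝒜 (i * d) from mul_comm d i ▸ SetLike.pow_mem_graded d hs)

/-- The map of local rings. -/
def locHom (y : Proj 𝒜) : Twist.Loc ℬ (e.hom.base y) →+* Twist.Loc 𝒜 y :=
  Localization.localRingHom _ _ φ.toRingHom (hom_apply he y)

theorem locHom_mk (y : Proj 𝒜) (a : B) (t : (e.hom.base y).asHomogeneousIdeal.toIdeal.primeCompl) :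
    locHom he y (Localization.mk a t) = Localization.mk (φ a) ⟨φ (t : B), (notMem_iff he y t).1 t.2⟩ := by
  rw [Localization.mk_eq_mk', Localization.mk_eq_mk']
  exact Localization.localRingHom_mk' _ _ _ _ a t

theorem exists_basicOpen_le (U : (Proj ℬ).Opens) (p : Proj ℬ) (hp : p ∈ U) :
    ∃ (n : ℕ) (g : B), 0 < n ∧ g ∈ ℬ n ∧ p ∈ Proj.basicOpen ℬ g ∧ Proj.basicOpen ℬ g ≤ U := by
  classical
  obtain ⟨_, ⟨a, rfl⟩, hpa, haU⟩ :=
    (ProjectiveSpectrum.isTopologicalBasis_basic_opens ℬ).exists_subset_of_mem_open hp U.2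
  obtain ⟨m, h, hm, hh, hph⟩ : ∃ (m : ℕ) (h : B), 0 < m ∧ h ∈ ℬ m ∧ h ∉ p.asHomogeneousIdeal := by
    by_contra hc
    push Not at hc
    refine p.not_irrelevant_le ?_
    rw [HomogeneousIdeal.irrelevant_le]
    intro m hm h hh
    exact hc m h hm hh
  replace hpa : p ∈ ProjectiveSpectrum.basicOpen ℬ a := hpa
  rw [ProjectiveSpectrum.basicOpen_eq_union_of_projection] at hpa
  obtain ⟨i, hi⟩ := Opens.mem_iSup.mp hpa
  refine ⟨i + m, (GradedAlgebra.proj ℬ i a) * h, Nat.add_pos_right i hm,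
    SetLike.mul_mem_graded (SetLike.coe_mem _) hh, mem_basicOpen_mul.mpr ⟨hi, hph⟩, fun q hq => haU ?_⟩
  show q ∈ ProjectiveSpectrum.basicOpen ℬ a
  rw [ProjectiveSpectrum.basicOpen_eq_union_of_projection]
  exact Opens.mem_iSup.mpr ⟨i, (mem_basicOpen_mul.mp hq).1⟩

theorem preimage_basicOpen {n : ℕ} (hn : 0 < n) (g : B) (hg : g ∈ ℬ n) :
    e.hom ⁻¹ᵁ Proj.basicOpen ℬ g = Proj.basicOpen 𝒜 (φ g) := by
  ext y
  exact notMem_iff he y g

omit he in
theorem awayι_appLE_injective {P : Type u} [CommRing P] [Algebra R P] (gr : ℕ → Submodule R P) [GradedAlgebra gr]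
    {x : P} {m : ℕ} (hx : x ∈ gr m) (hm : 0 < m)
    (h : ⊤ ≤ Proj.awayι gr x hx hm ⁻¹ᵁ Proj.basicOpen gr x) :
    Function.Injective ((Proj.awayι gr x hx hm).appLE (Proj.basicOpen gr x) ⊤ h).hom := by
  intro p q hpq
  have hb := ConcreteCategory.bijective_of_isIso (Proj.basicOpenIsoAway gr x hx hm).hom
  rw [Proj.basicOpenIsoAway_hom] at hb
  obtain ⟨p', rfl⟩ := hb.2 p
  obtain ⟨q', rfl⟩ := hb.2 q
  exact congrArg _ ((ConcreteCategory.bijective_of_isIso (Scheme.ΓSpecIso (.of (Away gr x))).inv).1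
    ((Ample.ProjMap.awayι_appLE_awayToSection gr hx hm p' h).symm.trans
      (hpq.trans (Ample.ProjMap.awayι_appLE_awayToSection gr hx hm q' h))))

omit he in
theorem specMap_awayι_appLE {P : Type u} [CommRing P] [Algebra R P] (gr : ℕ → Submodule R P) [GradedAlgebra gr]
    {x : P} {m : ℕ} (hx : x ∈ gr m) (hm : 0 < m) {S : CommRingCat.{u}} (θ : CommRingCat.of (Away gr x) ⟶ S)
    (hB : ⊤ ≤ Proj.awayι gr x hx hm ⁻¹ᵁ Proj.basicOpen gr x)
    (q : Spec S ⟶ Proj gr) (hq : q = Spec.map θ ≫ Proj.awayι gr x hx hm)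
    (h : ⊤ ≤ q ⁻¹ᵁ Proj.basicOpen gr x) (z : Away gr x) :
    (q.appLE (Proj.basicOpen gr x) ⊤ h).hom (Proj.awayToSection gr x z) = (Scheme.ΓSpecIso S).inv (θ z) := by
  subst hq
  rw [← Scheme.Hom.appLE_comp_appLE _ _ _ ⊤ ⊤ hB (fun _ _ => trivial), CommRingCat.comp_apply]
  refine (congrArg _ (Ample.ProjMap.awayι_appLE_awayToSection gr hx hm z hB)).trans ?_
  rw [show (Spec.map θ).appLE ⊤ ⊤ (fun _ _ => trivial) = (Spec.map θ).appTop by
    rw [Scheme.Hom.appTop, Scheme.Hom.app_eq_appLE]; rfl]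
  exact (ConcreteCategory.congr_hom (Scheme.ΓSpecIso_inv_naturality θ) z).symm

omit he in
theorem awayι_preimage_top {P : Type u} [CommRing P] [Algebra R P] (gr : ℕ → Submodule R P) [GradedAlgebra gr]
    {x : P} {m : ℕ} (hx : x ∈ gr m) (hm : 0 < m) : ⊤ ≤ Proj.awayι gr x hx hm ⁻¹ᵁ Proj.basicOpen gr x := by
  rw [← Proj.opensRange_awayι gr x hx hm, Scheme.Hom.preimage_opensRange]

theorem appLE_awayToSection {n : ℕ} (hn : 0 < n) (g : B) (hg : g ∈ ℬ n) (z : Away ℬ g) :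
    (e.hom.appLE (Proj.basicOpen ℬ g) (Proj.basicOpen 𝒜 (φ g)) (preimage_basicOpen he hn g hg).ge).hom
        (Proj.awayToSection ℬ g z) = Proj.awayToSection 𝒜 (φ g) (theta 𝒜 ℬ φ he.deg g z) := by
  have hgA := mem_of_veronese 𝒜 ℬ φ he.deg hg
  have hA := awayι_preimage_top 𝒜 hgA (Nat.mul_pos hn he.pos)
  refine awayι_appLE_injective 𝒜 hgA (Nat.mul_pos hn he.pos) hA ?_
  rw [← CommRingCat.comp_apply, Scheme.Hom.appLE_comp_appLE]
  exact (specMap_awayι_appLE ℬ hg hn (CommRingCat.ofHom (theta 𝒜 ℬ φ he.deg g)) (awayι_preimage_top ℬ hg hn) _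
    (awayι_hom he hn g hg) _ z).trans
    (Ample.ProjMap.awayι_appLE_awayToSection 𝒜 hgA (Nat.mul_pos hn he.pos) _ hA).symm

theorem ev_awayToSection_theta {g : B} {k n : ℕ} (hg : g ∈ ℬ n) (a : B) (ha : a ∈ ℬ (k • n))
    (y : Proj 𝒜) (hyB : e.hom.base y ∈ Proj.basicOpen ℬ g) (hyA : y ∈ Proj.basicOpen 𝒜 (φ g)) :
    (Ample.ProjTwist.ev ⟨y, hyA⟩ (Proj.awayToSection 𝒜 (φ g) (theta 𝒜 ℬ φ he.deg g (Away.mk ℬ hg k a ha))) :
        Twist.Loc 𝒜 y) =
      locHom he y (Ample.ProjTwist.ev ⟨e.hom.base y, hyB⟩ (Proj.awayToSection ℬ g (Away.mk ℬ hg k a ha))) := by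
  rw [theta_mk 𝒜 ℬ φ he.deg g hg]
  show _ = locHom he y (Localization.mk a ⟨g ^ k, fun h => hyB ((e.hom.base y).isPrime.mem_of_pow_mem _ h)⟩)
  rw [locHom_mk]
  simp only [map_pow]
  rfl

theorem ev_app (U : (Proj ℬ).Opens) (r : Γ(Proj ℬ, U)) (y : (e.hom ⁻¹ᵁ U : (Proj 𝒜).Opens)) :
    (Ample.ProjTwist.ev y (e.hom.app U r) : Twist.Loc 𝒜 y.1) =
      locHom he y.1 (Ample.ProjTwist.ev ⟨e.hom.base y.1, y.2⟩ r) := by
  obtain ⟨n, g, hn, hg, hyg, hgU⟩ := exists_basicOpen_le he U (e.hom.base y.1) y.2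
  have hb := ConcreteCategory.bijective_of_isIso (Proj.basicOpenIsoAway ℬ g hg hn).hom
  rw [Proj.basicOpenIsoAway_hom] at hb
  obtain ⟨z, hz⟩ := hb.2 ((Proj ℬ).presheaf.map (homOfLE hgU).op r)
  obtain ⟨k, a, ha, rfl⟩ := Away.mk_surjective ℬ hg z
  have hyA : y.1 ∈ Proj.basicOpen 𝒜 (φ g) := (notMem_iff he y.1 g).1 hyg
  have hle : Proj.basicOpen 𝒜 (φ g) ≤ e.hom ⁻¹ᵁ U := by
    rw [← preimage_basicOpen he hn g hg]; exact Scheme.Hom.preimage_mono _ hgU
  have h1 : (Proj 𝒜).presheaf.map (homOfLE hle).op (e.hom.app U r) =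
      (e.hom.appLE (Proj.basicOpen ℬ g) (Proj.basicOpen 𝒜 (φ g)) (preimage_basicOpen he hn g hg).ge).hom
        ((Proj ℬ).presheaf.map (homOfLE hgU).op r) := by
    rw [← CommRingCat.comp_apply, ← CommRingCat.comp_apply, Scheme.Hom.map_appLE]
    rfl
  rw [← hz, appLE_awayToSection he hn g hg] at h1
  refine (congrArg (Ample.ProjTwist.ev (⟨y.1, hyA⟩ : Proj.basicOpen 𝒜 (φ g))) h1).trans ?_
  refine (ev_awayToSection_theta he hg a ha y.1 hyg hyA).trans (congrArg (locHom he y.1) ?_)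
  exact congrArg (Ample.ProjTwist.ev (⟨e.hom.base y.1, hyg⟩ : Proj.basicOpen ℬ g)) hz

variable {M : Type u} [AddCommGroup M] [Module R M] [Module A M] {ℳ : ℕ → Submodule R M}
  [DirectSum.Decomposition ℳ] [SetLike.GradedSMul 𝒜 ℳ]
  {N : Type u} [AddCommGroup N] [Module R N] [Module B N] {𝒩 : ℕ → Submodule R N}
  [DirectSum.Decomposition 𝒩] [SetLike.GradedSMul ℬ 𝒩]
  (v : N →ₛₗ[φ.toRingHom] M)

/-- The map of localised modules. -/
def locMod (y : Proj 𝒜) :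
    _root_.GrTilde.LocMod ℬ (M := N) (e.hom.base y) → _root_.GrTilde.LocMod 𝒜 (M := M) y :=
  fun q => LocalizedModule.liftOn q
    (fun p => LocalizedModule.mk (v p.1) ⟨φ (p.2 : B), (notMem_iff he y p.2).1 p.2.2⟩) fun p p' ⟨u, hu⟩ => by
    refine LocalizedModule.mk_eq.mpr ⟨⟨φ (u : B), (notMem_iff he y u).1 u.2⟩, ?_⟩
    have h := congrArg v hu
    simp only [Submonoid.smul_def, map_smulₛₗ] at h ⊢
    exact h

theorem locMod_mk (y : Proj 𝒜) (a : N) (t : (e.hom.base y).asHomogeneousIdeal.toIdeal.primeCompl) :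
    locMod he v y (LocalizedModule.mk a t) =
      LocalizedModule.mk (v a) ⟨φ (t : B), (notMem_iff he y t).1 t.2⟩ := rfl

theorem locMod_add (y : Proj 𝒜) (p q : _root_.GrTilde.LocMod ℬ (M := N) (e.hom.base y)) :
    locMod he v y (p + q) = locMod he v y p + locMod he v y q := by
  induction p using LocalizedModule.induction_on with
  | h a s => induction q using LocalizedModule.induction_on with
    | h b t =>
      rw [LocalizedModule.mk_add_mk, locMod_mk, locMod_mk, locMod_mk, LocalizedModule.mk_add_mk]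
      refine LocalizedModule.mk_eq.mpr ⟨1, ?_⟩
      simp only [Submonoid.smul_def, map_add, map_smulₛₗ, Submonoid.coe_mul, map_mul,
        OneMemClass.coe_one, one_smul]
      rfl

theorem locMod_zero (y : Proj 𝒜) : locMod he v y 0 = 0 := by
  rw [← LocalizedModule.zero_mk 1, locMod_mk, map_zero, LocalizedModule.zero_mk]

theorem locMod_smul (y : Proj 𝒜) (c : Twist.Loc ℬ (e.hom.base y))
    (q : _root_.GrTilde.LocMod ℬ (M := N) (e.hom.base y)) :
    locMod he v y (c • q) = locHom he y c • locMod he v y q := by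
  induction c using Localization.induction_on with
  | H c => induction q using LocalizedModule.induction_on with
    | h b t =>
      rw [LocalizedModule.mk_smul_mk, locMod_mk, locMod_mk, locHom_mk, LocalizedModule.mk_smul_mk]
      refine LocalizedModule.mk_eq.mpr ⟨1, ?_⟩
      simp only [Submonoid.smul_def, map_smulₛₗ, Submonoid.coe_mul, map_mul, OneMemClass.coe_one, one_smul]
      rfl

omit he in
/-- An element of the degree `n` part at a point is a single fraction. -/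
theorem exists_mk_of_tildeAt {n : ℤ} (p : Proj ℬ) (q : _root_.GrTilde.LocMod ℬ (M := N) p)
    (hq : q ∈ _root_.GrTilde.tildeAt ℬ 𝒩 n p) :
    ∃ (i j : ℕ) (a : N) (s : B) (_ : a ∈ 𝒩 i) (_ : s ∈ ℬ j) (hs : s ∉ p.asHomogeneousIdeal),
      ((i : ℤ) = j + n ∨ a = 0) ∧ q = LocalizedModule.mk a ⟨s, hs⟩ := by
  obtain ⟨U, hp, m, hm⟩ := exists_section_of_tildeAt p q hq
  obtain ⟨W, hpW, iW, i, j, ⟨a, ha⟩, ⟨s, hs⟩, nin, hd, hw⟩ :=
    (show _root_.GrTilde.sect ℬ 𝒩 n (op U) from m).2 ⟨p, hp⟩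
  exact ⟨i, j, a, s, ha, hs, nin ⟨p, hpW⟩, hd, hm.symm.trans (hw ⟨p, hpW⟩)⟩

variable (hvdeg : ∀ n : ℕ, (𝒩 n : Set N).image v = (ℳ (n * d) : Set M))
include hvdeg

omit he in
theorem v_mem {i : ℕ} {a : N} (ha : a ∈ 𝒩 i) : v a ∈ ℳ (i * d) := (hvdeg i).le ⟨a, ha, rfl⟩

theorem eq_zero_of_locMod (hv : Function.Injective v) (y : Proj 𝒜) {i : ℕ} {a : N} (ha : a ∈ 𝒩 i)
    (t : (e.hom.base y).asHomogeneousIdeal.toIdeal.primeCompl)
    (h : locMod he v y (LocalizedModule.mk a t) = 0) :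
    (LocalizedModule.mk a t : _root_.GrTilde.LocMod ℬ (M := N) (e.hom.base y)) = 0 := by
  rw [locMod_mk, ← LocalizedModule.zero_mk 1, LocalizedModule.mk_eq] at h
  obtain ⟨⟨u, hu⟩, h⟩ := h
  simp only [Submonoid.smul_def, OneMemClass.coe_one, one_smul, smul_zero] at h
  obtain ⟨k, w, hw, hwy, hwa⟩ := exists_homogeneous_kill (v_mem v hvdeg ha) hu h
  obtain ⟨b, -, hb'⟩ := exists_pow_eq he hw
  have hby : b ∉ (e.hom.base y).asHomogeneousIdeal :=
    (notMem_iff he y b).2 (hb' ▸ fun hm => hwy (y.isPrime.mem_of_pow_mem _ hm))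
  rw [← LocalizedModule.zero_mk 1, LocalizedModule.mk_eq]
  refine ⟨⟨b, hby⟩, ?_⟩
  simp only [Submonoid.smul_def, OneMemClass.coe_one, one_smul, smul_zero]
  refine hv ?_
  rw [map_smulₛₗ, map_zero]
  show φ b • v a = 0
  obtain ⟨m, hm⟩ := Nat.exists_eq_succ_of_ne_zero he.pos.ne'
  rw [hb', hm, pow_succ, mul_smul, hwa, smul_zero]

theorem locMod_injective (hv : Function.Injective v) (y : Proj 𝒜) {n : ℤ}
    {q q' : _root_.GrTilde.LocMod ℬ (M := N) (e.hom.base y)}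
    (hq : q ∈ _root_.GrTilde.tildeAt ℬ 𝒩 n (e.hom.base y)) (hq' : q' ∈ _root_.GrTilde.tildeAt ℬ 𝒩 n (e.hom.base y))
    (h : locMod he v y q = locMod he v y q') : q = q' := by
  obtain ⟨i, j, a, s, ha, hs, hsp, -, hx⟩ := exists_mk_of_tildeAt _ _ (sub_mem hq hq')
  rw [← sub_eq_zero, hx]
  refine eq_zero_of_locMod he v hvdeg hv y ha _ ?_
  rw [← hx]
  have h1 : locMod he v y (q - q') + locMod he v y q' = locMod he v y q := by rw [← locMod_add, sub_add_cancel]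
  rw [h] at h1
  exact add_eq_right.mp h1

theorem locMod_mem {n k : ℤ} (hk : k = n * d) (y : Proj 𝒜)
    (q : _root_.GrTilde.LocMod ℬ (M := N) (e.hom.base y))
    (hq : q ∈ _root_.GrTilde.tildeAt ℬ 𝒩 n (e.hom.base y)) :
    locMod he v y q ∈ _root_.GrTilde.tildeAt 𝒜 ℳ k y := by
  obtain ⟨i, j, a, s, ha, hs, hsp, hd, rfl⟩ := exists_mk_of_tildeAt _ _ hq
  rw [locMod_mk]
  rcases hd with h | h
  · refine Submodule.subset_span ⟨i * d, j * d, ⟨v a, v_mem v hvdeg ha⟩, ⟨φ s, mem_of_veronese 𝒜 ℬ φ he.deg hs⟩,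
      (notMem_iff he y s).1 hsp, ?_, rfl⟩
    subst hk
    push_cast
    rw [h]; ring
  · rw [h, map_zero, LocalizedModule.zero_mk]; exact zero_mem _

/-- The pulled back section. -/
def secFun {n k : ℤ} (hk : k = n * d) (U : (Proj ℬ).Opens) (s : _root_.GrTilde.sect ℬ 𝒩 n (op U))
    (y : (e.hom ⁻¹ᵁ U : (Proj 𝒜).Opens)) : _root_.GrTilde.tildeAt 𝒜 ℳ k y.1 :=
  ⟨locMod he v y.1 (s.1 ⟨e.hom.base y.1, y.2⟩).1, locMod_mem he v hvdeg hk y.1 _ (s.1 ⟨e.hom.base y.1, y.2⟩).2⟩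

theorem isLocFrac_secFun {n k : ℤ} (hk : k = n * d) (U : (Proj ℬ).Opens)
    (s : _root_.GrTilde.sect ℬ 𝒩 n (op U)) :
    (_root_.GrTilde.isLocFrac 𝒜 ℳ k).pred (secFun he v hvdeg hk U s) := by
  rintro ⟨y, hy⟩
  obtain ⟨W, hW, iW, i, j, ⟨a, ha⟩, ⟨t, ht⟩, nin, hd, hw⟩ := s.2 ⟨e.hom.base y, hy⟩
  refine ⟨e.hom ⁻¹ᵁ W, hW, homOfLE (Scheme.Hom.preimage_mono e.hom (leOfHom iW)), i * d, j * d,
    ⟨v a, v_mem v hvdeg ha⟩, ⟨φ t, mem_of_veronese 𝒜 ℬ φ he.deg ht⟩,
    fun z => (notMem_iff he z.1 t).1 (nin ⟨_, z.2⟩), ?_, fun z => ?_⟩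
  · refine hd.imp (fun h => ?_) fun h => show v a = 0 by rw [show a = 0 from h, map_zero]
    subst hk
    push_cast
    rw [h]; ring
  · exact (congrArg (locMod he v z.1) (hw ⟨_, z.2⟩)).trans (locMod_mk he v z.1 _ _)

/-- Pulling back sections. -/
def secMap {n k : ℤ} (hk : k = n * d) (U : (Proj ℬ).Opens) :
    _root_.GrTilde.sect ℬ 𝒩 n (op U) →+ _root_.GrTilde.sect 𝒜 ℳ k (op (e.hom ⁻¹ᵁ U)) where
  toFun s := ⟨secFun he v hvdeg hk U s, isLocFrac_secFun he v hvdeg hk U s⟩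
  map_zero' := Subtype.ext (funext fun y => Subtype.ext (locMod_zero he v y.1))
  map_add' s t := Subtype.ext (funext fun y => Subtype.ext (locMod_add he v y.1 _ _))

theorem secMap_smul {n k : ℤ} (hk : k = n * d) (U : (Proj ℬ).Opens) (r : Γ(Proj ℬ, U))
    (s : _root_.GrTilde.sect ℬ 𝒩 n (op U)) :
    secMap he v hvdeg hk U ((show Twist.O (op U) from r) • s) =
      (show Twist.O (op (e.hom ⁻¹ᵁ U)) from e.hom.app U r) • secMap he v hvdeg hk U s := by
  refine Subtype.ext (funext fun y => Subtype.ext ?_)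
  refine (congrArg (locMod he v y.1) (_root_.GrTilde.coe_smul_val n _ _ _)).trans ?_
  refine (locMod_smul he v y.1 _ _).trans ?_
  refine Eq.trans ?_ (_root_.GrTilde.coe_smul_val k y.1 _ _).symm
  exact congrArg (fun c : Twist.Loc 𝒜 y.1 => c • ((secMap he v hvdeg hk U s).1 y).1) (ev_app he U r y).symm

/-- The comparison map. -/
def compMap {n k : ℤ} (hk : k = n * d) :
    _root_.GrTilde.tilde ℬ 𝒩 n ⟶ (Scheme.Modules.pushforward e.hom).obj (_root_.GrTilde.tilde 𝒜 ℳ k) :=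
  ⟨PresheafOfModules.homMk
    { app := fun U => AddCommGrpCat.ofHom (secMap he v hvdeg hk U.unop)
      naturality := fun _ _ _ => rfl }
    fun U r s => secMap_smul he v hvdeg hk U.unop r s⟩

theorem bijective_secMap (hv : Function.Injective v) {n k : ℤ} (hk : k = n * d) (U : (Proj ℬ).Opens) :
    Function.Bijective (secMap he v hvdeg hk U) := by
  have hsurj : Function.Surjective e.hom.base := fun x => ⟨e.inv.base x, by simp⟩
  constructor
  · intro s t hst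
    refine Subtype.ext (funext fun x => Subtype.ext ?_)
    obtain ⟨x, hx⟩ := x
    obtain ⟨y, rfl⟩ := hsurj x
    refine locMod_injective he v hvdeg hv y (s.1 ⟨_, hx⟩).2 (t.1 ⟨_, hx⟩).2 ?_
    exact congrArg (fun w : _root_.GrTilde.sect 𝒜 ℳ k (op (e.hom ⁻¹ᵁ U)) => (w.1 ⟨y, hx⟩).1) hst
  · intro t
    have hinj : Function.Injective e.hom.base := e.hom.isOpenEmbedding.injective
    have hrep : ∀ x : U, ∃ (W : (Proj ℬ).Opens) (_ : x.1 ∈ W) (hW : W ≤ U) (i j : ℕ) (a : 𝒩 i) (s : ℬ j)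
        (nin : ∀ w : W, (s : B) ∉ w.1.asHomogeneousIdeal), ((i : ℤ) = j + n ∨ (a : N) = 0) ∧
          ∀ (z : Proj 𝒜) (hz : e.hom.base z ∈ W),
            locMod he v z (LocalizedModule.mk (a : N) ⟨(s : B), nin ⟨_, hz⟩⟩) =
              (t.1 ⟨z, hW hz⟩).1 := by
      rintro ⟨x, hx⟩
      obtain ⟨y, rfl⟩ := hsurj x
      obtain ⟨W, hyW, iW, p, q, ⟨m, hm⟩, ⟨s, hs⟩, nin, hd, hw⟩ := t.2 ⟨y, hx⟩
      obtain ⟨b, hb, hb'⟩ := exists_pow_eq he hs
      obtain ⟨c, hc⟩ := Nat.exists_eq_succ_of_ne_zero he.pos.ne'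
      obtain ⟨i, hid, a, ha, hva⟩ : ∃ i : ℕ, ((i : ℤ) = q + n ∨ m = 0) ∧ ∃ a ∈ 𝒩 i, v a = s ^ c • m ∧
          ((i : ℤ) = q + n ∨ a = 0) := by
        rcases hd with h | h
        · replace h : (p : ℤ) = q + k := h
          subst hk
          have hdc : (d : ℤ) = c + 1 := by exact_mod_cast hc
          have hnn : 0 ≤ (q : ℤ) + n := by
            by_contra hneg
            push Not at hneg
            nlinarith
          obtain ⟨a, ha, hva⟩ := (hvdeg ((q : ℤ) + n).toNat).ge (show s ^ c • m ∈ ℳ (((q : ℤ) + n).toNat * d) by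
            have hdeg : c • q + p = ((q : ℤ) + n).toNat * d := by
              zify
              rw [Int.toNat_of_nonneg hnn, h, hdc]
              simp only [smul_eq_mul]
              push_cast
              ring
            exact hdeg ▸ SetLike.GradedSMul.smul_mem (SetLike.pow_mem_graded c hs) hm)
          exact ⟨((q : ℤ) + n).toNat, Or.inl (Int.toNat_of_nonneg hnn), a, ha, hva,
            Or.inl (Int.toNat_of_nonneg hnn)⟩
        · replace h : m = 0 := h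
          exact ⟨0, Or.inr h, 0, zero_mem _, by rw [map_zero, h, smul_zero], Or.inr rfl⟩
      let W' : (Proj ℬ).Opens :=
        (⟨e.hom.base '' (show Set (Proj 𝒜) from (W : Set (ProjectiveSpectrum.top 𝒜))),
          e.hom.isOpenEmbedding.isOpenMap (W : Set (ProjectiveSpectrum.top 𝒜)) W.2⟩ : (Proj ℬ).Opens)
      have nin' : ∀ w : W', b ∉ w.1.asHomogeneousIdeal := by
        rintro ⟨_, z, hz, rfl⟩
        refine (notMem_iff he z b).2 ?_
        rw [hb']
        exact fun h => nin ⟨z, hz⟩ (z.isPrime.mem_of_pow_mem _ h)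
      have hW' : W' ≤ U := by
        rintro _ ⟨z, hz, rfl⟩
        exact leOfHom iW hz
      refine ⟨W', ⟨y, hyW, rfl⟩, hW', i, q, ⟨a, ha⟩, ⟨b, hb⟩, nin', hva.2, fun z hz => ?_⟩
      have hzW : z ∈ W := by
        obtain ⟨z', hz', hzz⟩ := hz
        exact hinj hzz ▸ hz'
      refine (locMod_mk he v z _ _).trans (Eq.trans ?_ (hw ⟨z, hzW⟩).symm)
      refine LocalizedModule.mk_eq.mpr ⟨1, ?_⟩
      simp only [Submonoid.smul_def, OneMemClass.coe_one, one_smul]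
      show s • v a = φ b • m
      rw [hva.1, hb', hc, smul_smul, ← pow_succ']
    choose W hxW hWU i j a s nin hd hval using hrep
    have hmem : ∀ x : U, (LocalizedModule.mk (a x : N) ⟨(s x : B), nin x ⟨x.1, hxW x⟩⟩ :
        _root_.GrTilde.LocMod ℬ (M := N) x.1) ∈ _root_.GrTilde.tildeAt ℬ 𝒩 n x.1 := fun x => by
      rcases hd x with h | h
      · exact Submodule.subset_span ⟨_, _, a x, s x, _, h, rfl⟩
      · rw [h, LocalizedModule.zero_mk]; exact zero_mem _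
    refine ⟨⟨fun x => ⟨_, hmem x⟩, fun x => ?_⟩, ?_⟩
    · refine ⟨W x, hxW x, homOfLE (hWU x), i x, j x, a x, s x, nin x, hd x, fun w => ?_⟩
      obtain ⟨w, hw⟩ := w
      obtain ⟨z, rfl⟩ := hsurj w
      let x' : U := ⟨e.hom.base z, hWU x hw⟩
      refine locMod_injective he v hvdeg hv z (hmem x') ?_ ((hval x' z (hxW x')).trans (hval x z hw).symm)
      rcases hd x with h | h
      · exact Submodule.subset_span ⟨_, _, a x, s x, _, h, rfl⟩
      · rw [h, LocalizedModule.zero_mk]; exact zero_mem _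
    · exact Subtype.ext (funext fun y => Subtype.ext (hval ⟨_, y.2⟩ y.1 (hxW _)))

theorem nonempty_iso (hv : Function.Injective v) {n k : ℤ} (hk : k = n * d) :
    Nonempty (_root_.GrTilde.tilde 𝒜 ℳ k ≅ (Scheme.Modules.pullback e.hom).obj (_root_.GrTilde.tilde ℬ 𝒩 n)) := by
  have h : IsIso (((Scheme.Modules.pullbackPushforwardAdjunction e.hom).homEquiv _ _).symm
      (compMap he v hvdeg hk)) := by
    refine TwistAdj10.isIso_adjunct e.hom _ fun V => ?_
    have hb := bijective_secMap he v hvdeg hv hk (e.hom ''ᵁ V)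
    exact (ConcreteCategory.bijective_of_isIso
      ((_root_.GrTilde.tilde 𝒜 ℳ k).presheaf.map (eqToHom (e.hom.preimage_image_eq V).symm).op)).comp hb
  exact ⟨(@asIso _ _ _ _ _ h).symm⟩

end GrothLib.VerTilde10
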